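import Cfsg.Agent.H651.Two.Row
import Cfsg.Agent.H651.Two.Count
import Cfsg.Agent.H492.FactsON
import Cfsg.Agent.H999.ONIMFive
import Cfsg.Agent.H210.On7.Loc
import Cfsg.Agent.S2078
import Cfsg.Agent.S2052

/-!
# FactTwo, the row of the O'Nan group (helper440)

Degrees 10944, 26752, 32395, 52668 (helper492), 175616 (helper210); `p = 5, 31` : counting classes of `p'`-elements.
-/

set_option autoImplicit false

namespace Cfsg.Agent.H440.Two.ON

open Subgroup Cfsg
open Cfsg.Spor (ON)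
open Cfsg.Agent.SporadicB.ON45Word (on)
open Cfsg.Agent.KFacts.ON.Words (v)
open Cfsg.Agent.KFacts.ON.Cent (finite_ON)
open Cfsg.Agent.KFacts.MulSpor.ON (w)
open Cfsg.Agent.H651.Two Cfsg.Agent.H596.OneFacts
open Cfsg.Agent.H593.IMCyc Cfsg.Agent.H713.Count

universe u

theorem card_ON : Nat.card ON = 460815505920 := Cfsg.Agent.H999.ONIMThree.card_ON

/-- lists of nonconjugate `p'`-elements -/
theorem lists_le {G : Type u} [Group G] [Finite G] {p : ℕ} [hp : Fact p.Prime]
    (hG : (Nat.card G).factorization p = 1) {x : G} (hx : orderOf x = p)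
    {e m : ℕ} (he : (fus (p := p) x).card ≤ e) (hm : numCls p (zpowers x) ≤ m)
    (S : Finset ℕ) (f : ℕ → ℕ) (hS : ∀ n ∈ S, ¬ p ∣ n ∧ ∃ l : List G, l.length = f n ∧
      (∀ g ∈ l, orderOf g = n) ∧ l.Pairwise fun a b => ¬ IsConj a b) :
    ∑ n ∈ S, f n ≤ ND p G + e * m := by
  choose l hl using fun n : S => (hS n n.2).2
  have h := regular_le hG hx he hm (ι := Σ n : S, Fin (l n).length) (fun i => (l i.1).get i.2) ?_ ?_
  · rw [Fintype.card_sigma] at h
    simp only [Fintype.card_fin] at h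
    refine le_trans (le_of_eq ?_) h
    rw [← Finset.sum_coe_sort S f]
    exact Finset.sum_congr rfl fun n _ => ((hl n).1).symm
  · rintro ⟨n, i⟩
    rw [(hl n).2.1 _ (List.get_mem _ _)]
    exact (hS n n.2).1
  · rintro ⟨n, i⟩ ⟨k, j⟩ hij
    have h1 : (n : ℕ) = k := by
      obtain ⟨c, hc⟩ := isConj_iff.1 hij
      rw [← (hl n).2.1 _ (List.get_mem (l n) i), ← (hl k).2.1 _ (List.get_mem (l k) j),
        ← Cfsg.Agent.H724.IMTool.orderOf_conj c, hc]
    have h2 : n = k := Subtype.ext h1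
    subst h2
    have h3 := List.pairwise_iff_get.1 (hl n).2.2
    rcases lt_trichotomy i j with h4 | h4 | h4
    · exact absurd hij (h3 i j h4)
    · rw [h4]
    · exact absurd hij.symm (h3 j i h4)

theorem fac {p : ℕ} (hp : p.Prime) (h1 : p ∣ 460815505920) (h2 : ¬ p ^ 2 ∣ 460815505920) :
    (Nat.card ON).factorization p = 1 := by
  rw [card_ON]
  have h3 := (hp.dvd_iff_one_le_factorization (by norm_num)).1 h1
  have h4 : ¬ 2 ≤ (460815505920 : ℕ).factorization p := fun h => h2 ((hp.pow_dvd_iff_le_factorization (by norm_num)).2 h)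
  omega

/-- elements of order 19 -/
theorem not_conj_19 {y : ON} (hy : orderOf y = 19) {k : ℕ} (hk : ¬ 19 ∣ k) (h : k ^ 6 % 19 ≠ 1) :
    ¬ IsConj y (y ^ k) := by
  have := finite_ON
  have : Fact (Nat.Prime 19) := ⟨by norm_num⟩
  have he := Cfsg.Agent.H724.IMTool.fus_card_eq (e := 6) (c := 1) (fac (p := 19) (by norm_num) (by norm_num)
    (by norm_num)) hy (by rw [Cfsg.Agent.H680.ONThirtyOne.card_cent_nineteen hy]) (by rw [card_ON]; decide)
  refine Cfsg.Agent.H724.IMTool.not_isConj_pow (p := 19) (by rw [← hy, pow_orderOf_eq_one]) hk ?_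
  rw [he]
  exact h

theorem fus_31 {y : ON} (hy : orderOf y = 31) [Fact (Nat.Prime 31)] : (fus (p := 31) y).card = 15 := by
  have := finite_ON
  exact Cfsg.Agent.H724.IMTool.fus_card_eq (e := 15) (c := 1) (fac (p := 31) (by norm_num) (by norm_num)
    (by norm_num)) hy (by rw [Cfsg.Agent.H680.ONThirtyOne.card_cent hy]) (by rw [card_ON]; decide)

/-- elements of order 31 -/
theorem not_conj_31 {y : ON} (hy : orderOf y = 31) : ¬ IsConj y (y ^ 30) := by
  have := finite_ON
  have : Fact (Nat.Prime 31) := ⟨by norm_num⟩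
  refine Cfsg.Agent.H724.IMTool.not_isConj_pow (p := 31) (by rw [← hy, pow_orderOf_eq_one]) (by norm_num) ?_
  rw [fus_31 hy]
  norm_num

theorem one (g : ON) (n : ℕ) (hg : orderOf g = n) : ∃ l : List ON, l.length = 1 ∧ (∀ g ∈ l, orderOf g = n) ∧
      l.Pairwise fun a b => ¬ IsConj a b :=
  ⟨[g], rfl, by intro a ha; rw [List.mem_singleton.1 ha]; exact hg, List.pairwise_singleton _ _⟩

theorem two (g k : ON) (n : ℕ) (hg : orderOf g = n) (hk : orderOf k = n) (hgk : ¬ IsConj g k) :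
    ∃ l : List ON, l.length = 2 ∧ (∀ g ∈ l, orderOf g = n) ∧ l.Pairwise fun a b => ¬ IsConj a b :=
  ⟨[g, k], rfl, by
    intro a ha
    simp only [List.mem_cons, List.not_mem_nil, or_false] at ha
    rcases ha with rfl | rfl
    · exact hg
    · exact hk, by simpa using hgk⟩

/-- three classes of elements of order 19 -/
theorem three_19 {y : ON} (hy : orderOf y = 19) : ∃ l : List ON, l.length = 3 ∧ (∀ g ∈ l, orderOf g = 19) ∧
    l.Pairwise fun a b => ¬ IsConj a b := by
  have h2 : orderOf (y ^ 2) = 19 := by rw [Nat.Coprime.orderOf_pow (by rw [hy]; norm_num), hy]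
  have h4 : orderOf ((y ^ 2) ^ 2) = 19 := by rw [Nat.Coprime.orderOf_pow (by rw [h2]; norm_num), h2]
  have c12 : ¬ IsConj y (y ^ 2) := not_conj_19 hy (by norm_num) (by norm_num)
  have c24 : ¬ IsConj (y ^ 2) ((y ^ 2) ^ 2) := not_conj_19 h2 (by norm_num) (by norm_num)
  have c14 : ¬ IsConj y ((y ^ 2) ^ 2) := by
    rw [← pow_mul]
    exact not_conj_19 hy (by norm_num) (by norm_num)
  refine ⟨[y, y ^ 2, (y ^ 2) ^ 2], rfl, ?_, ?_⟩
  · intro a ha
    simp only [List.mem_cons, List.not_mem_nil, or_false] at ha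
    rcases ha with rfl | rfl | rfl
    · exact hy
    · exact h2
    · exact h4
  · simp only [List.pairwise_cons, List.mem_cons, List.not_mem_nil, or_false, forall_eq_or_imp, forall_eq,
      IsEmpty.forall_iff, implies_true, List.Pairwise.nil, and_true]
    exact ⟨⟨c12, c14⟩, c24⟩

/-- the elements -/
theorem elts : ∀ n ∈ ({1, 2, 3, 4, 5, 6, 7, 8, 10, 11, 12, 14, 15, 16, 19, 20, 28, 31} : Finset ℕ),
    ∃ l : List ON, l.length = (if n = 19 then 3 else if n = 4 ∨ n = 28 ∨ n = 31 then 2 else 1) ∧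
      (∀ g ∈ l, orderOf g = n) ∧ l.Pairwise fun a b => ¬ IsConj a b := by
  obtain ⟨y3, h3, h3v⟩ := Cfsg.Agent.H866.VanON.exists_J 3 (by norm_num) (by norm_num)
  obtain ⟨y5, h5, h5v⟩ := Cfsg.Agent.H866.VanON.exists_J 5 (by norm_num) (by norm_num)
  obtain ⟨y7, h7, h7v⟩ := Cfsg.Agent.H866.VanON.exists_J 7 (by norm_num) (by norm_num)
  obtain ⟨y11, h11⟩ := Cfsg.Agent.H866.VanON.exists_G 11 (by norm_num) (by norm_num)
  obtain ⟨y19, h19⟩ := Cfsg.Agent.H866.VanON.exists_G 19 (by norm_num) (by norm_num)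
  obtain ⟨y31, h31⟩ := Cfsg.Agent.H866.VanON.exists_G 31 (by norm_num) (by norm_num)
  have o3 : Odd (orderOf y3) := by rw [h3]; decide
  have o5 : Odd (orderOf y5) := by rw [h5]; decide
  have o7 : Odd (orderOf y7) := by rw [h7]; decide
  intro n hn
  simp only [Finset.mem_insert, Finset.mem_singleton] at hn
  rcases hn with rfl | rfl | rfl | rfl | rfl | rfl | rfl | rfl | rfl | rfl | rfl | rfl | rfl | rfl | rfl | rfl | rfl |
    rfl
  · exact one 1 _ orderOf_one
  · exact one _ _ Cfsg.Agent.H866.VanON.order_f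
  · exact one _ _ h3
  · exact two _ _ _ Cfsg.Agent.H866.VanON.order_v Cfsg.Agent.H866.VanON.order_av Cfsg.Agent.H866.VanON.not_conj_4
  · exact one _ _ h5
  · exact one (y3 * on .f) _ (by rw [Cfsg.Agent.H866.VanON.order_mul_f o3 h3v, h3])
  · exact one _ _ h7
  · exact one _ _ Cfsg.Agent.H866.VanON.order_8
  · exact one (y5 * on .f) _ (by rw [Cfsg.Agent.H866.VanON.order_mul_f o5 h5v, h5])
  · exact one _ _ h11
  · exact one (y3 * v) _ (by rw [Cfsg.Agent.H866.VanON.order_mul_v o3 h3v, h3])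
  · exact one (y7 * on .f) _ (by rw [Cfsg.Agent.H866.VanON.order_mul_f o7 h7v, h7])
  · exact one _ _ Cfsg.Agent.H866.VanON.order_15
  · exact one _ _ Cfsg.Agent.H866.VanON.order_16
  · exact three_19 h19
  · exact one (y5 * v) _ (by rw [Cfsg.Agent.H866.VanON.order_mul_v o5 h5v, h5])
  · exact two (y7 * v) (y7 * v⁻¹) _ (by rw [Cfsg.Agent.H866.VanON.order_mul_v o7 h7v, h7])
      (by rw [Cfsg.Agent.H866.VanON.order_inv_v o7 h7v, h7]) (Cfsg.Agent.H866.VanON.not_conj_28 h7 h7v)
  · exact two y31 (y31 ^ 30) _ h31 (by rw [Nat.Coprime.orderOf_pow (by rw [h31]; norm_num), h31]) (not_conj_31 h31)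

theorem two_five [Fact (Nat.Prime 5)] : Two 5 ON := by
  have := finite_ON
  obtain ⟨x, hx⟩ := Cfsg.Agent.H866.VanON.exists_G 5 (by norm_num) (by norm_num)
  have hx5 : x ^ 5 = 1 := by rw [← hx, pow_orderOf_eq_one]
  have he : (fus (p := 5) x).card ≤ 4 :=
    Nat.le_of_dvd (by norm_num) (Cfsg.Agent.H724.IMTool.fus_card_dvd (p := 5) hx5)
  have h := lists_le (p := 5) Cfsg.Agent.H999.ONIMFive.factorization_five hx he
    (Cfsg.Agent.H999.ONIMFive.numCls_five hx)
    {1, 2, 3, 4, 6, 7, 8, 11, 12, 14, 16, 19, 28, 31}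
    (fun n => if n = 19 then 3 else if n = 4 ∨ n = 28 ∨ n = 31 then 2 else 1) fun n hn => ⟨?_, elts n ?_⟩
  · have h2 : (19 : ℕ) ≤ ND 5 ON + 4 * 4 := le_trans (by decide) h
    exact two_of_three Cfsg.Agent.S2078.result.le (by omega)
  · revert n; decide
  · revert n; decide

theorem numCls_31 {x : ON} (hx : orderOf x = 31) [Fact (Nat.Prime 31)] : numCls 31 (zpowers x) ≤ 1 := by
  have := finite_ON
  have h := Cfsg.Agent.H999.ONIMFive.numCls_le_conj (p := 31) (fac (p := 31) (by norm_num) (by norm_num) (by norm_num)) hx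
    (fun _ : Unit => (1 : ON)) (fun c hc h31 => ⟨(), by
      have hcC : c ∈ centralizer ({x} : Set ON) := mem_centralizer_singleton_iff.2 hc
      have h1 : orderOf c ∣ 31 := by
        rw [← Cfsg.Agent.H680.ONThirtyOne.card_cent hx, ← Subgroup.orderOf_mk c hcC]
        exact orderOf_dvd_natCard _
      rcases (Nat.dvd_prime (by norm_num)).1 h1 with h2 | h2
      · rw [orderOf_eq_one_iff.1 h2]
      · exact absurd (by rw [h2]) h31⟩)
  simpa using h

theorem two_31 [Fact (Nat.Prime 31)] : Two 31 ON := by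
  have := finite_ON
  obtain ⟨x, hx⟩ := Cfsg.Agent.H866.VanON.exists_G 31 (by norm_num) (by norm_num)
  have h := lists_le (p := 31) (fac (p := 31) (by norm_num) (by norm_num) (by norm_num)) hx (fus_31 hx).le (numCls_31 hx)
    {1, 2, 3, 4, 5, 6, 7, 8, 10, 11, 12, 14, 15, 16, 19, 20, 28}
    (fun n => if n = 19 then 3 else if n = 4 ∨ n = 28 ∨ n = 31 then 2 else 1) fun n hn => ⟨?_, elts n ?_⟩
  · have h2 : (18 : ℕ) ≤ ND 31 ON + 15 * 1 := le_trans (by decide) h
    exact two_of_three Cfsg.Agent.S2078.result.le (by omega)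
  · revert n; decide
  · revert n; decide

theorem deg_of {d : ℕ} (h : ∃ χ : IrrCharacter ON, (χ : ON → ℂ) 1 = (d : ℕ)) :
    ∃ χ : IrrCharacter ON, charDegree (χ : ON → ℂ) = d := by
  obtain ⟨χ, hχ⟩ := h
  exact ⟨χ, Cfsg.Agent.H670.PSing.charDegree_eq_of hχ⟩

theorem two_ON {p : ℕ} (hp : p.Prime) (hd : p ∣ Nat.card ON) : Two p ON := by
  have a := deg_of Cfsg.Agent.H492.FactsON.exists_10944
  have b := deg_of Cfsg.Agent.H492.FactsON.exists_26752
  have c := deg_of Cfsg.Agent.H492.FactsON.exists_32395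
  have d := deg_of Cfsg.Agent.H492.FactsON.exists_52668
  rw [card_ON] at hd
  have hF : Fact p.Prime := ⟨hp⟩
  rcases Cfsg.Agent.S2052.prime_cases hp hd with rfl | rfl | rfl | rfl | rfl | rfl | rfl
  · exact two_of_degs a b (by norm_num) (by norm_num) (by norm_num)
  · exact two_of_degs a d (by norm_num) (by norm_num) (by norm_num)
  · exact two_five
  · exact two_of_degs d Cfsg.Agent.H210.On7.exists_charDegree (by norm_num) (by norm_num) (by norm_num)
  · exact two_of_degs b c (by norm_num) (by norm_num) (by norm_num)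
  · exact two_of_degs a b (by norm_num) (by norm_num) (by norm_num)
  · exact two_31

/-- **FactTwo for the O'Nan group.** -/
theorem two_on {S : Type u} [Group S] (h : Cfsg.Spor.IsoON S) {p : ℕ} [hp : Fact p.Prime]
    (hd : p ∣ Nat.card S) : Cfsg.Agent.H596.OneFacts.TwoOr p S :=
  twoOr_of h hd (two_ON hp.out)

end Cfsg.Agent.H440.Two.ON
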